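import Mathlib

/-!
# Regular sequences generating the same ideal are connected by elementary steps
-/

set_option autoImplicit false

universe u

open RingTheory.Sequence IsLocalRing

namespace Groth.Agent.RegChain

variable {A : Type u} [CommRing A]

theorem ofList_perm {l l' : List A} (h : l.Perm l') : Ideal.ofList l = Ideal.ofList l' :=
  congrArg Ideal.span (Set.ext fun _ => h.mem_iff)

variable [IsLocalRing A]

theorem mem_maximal {l : List A} (h : IsRegular A l) : Ideal.ofList l ≤ maximalIdeal A :=
  IsLocalRing.le_maximalIdeal fun e => h.top_ne_smul (by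
    rw [e, Submodule.top_smul])

theorem not_mem_ofList [IsNoetherianRing A] {l : List A} (h : IsRegular A l) {l' : List A} {x : A}
    (hp : l.Perm (l' ++ [x])) : x ∉ Ideal.ofList l' := by
  intro hx
  obtain ⟨h1, h2⟩ := IsLocalRing.isRegular_of_perm h hp
  obtain ⟨-, h3⟩ := (isWeaklyRegular_append_iff A l' [x]).1 h1
  rw [isWeaklyRegular_singleton_iff] at h3
  have hz : (⊤ : Submodule A A) = Ideal.ofList l' • ⊤ := by
    refine (eq_top_iff.2 fun y _ => ?_).symm
    rw [← Submodule.Quotient.mk_eq_zero]
    refine h3 ?_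
    show x • Submodule.Quotient.mk y = x • 0
    rw [smul_zero, ← Submodule.Quotient.mk_smul, Submodule.Quotient.mk_eq_zero]
    exact Submodule.smul_mem_smul hx trivial
  refine h2 (le_antisymm (hz.le.trans (Submodule.smul_mono_left ?_)) le_top)
  rw [Ideal.ofList_append]
  exact le_sup_left

/-- either some element of `s` has a unit coefficient, or the element is in `m • (s)` -/
theorem exists_unit_coeff (s : List A) : ∀ x ∈ Ideal.ofList s,
    (∃ (s' : List A) (y : A) (a : A), s.Perm (s' ++ [y]) ∧ IsUnit a ∧ x - a * y ∈ Ideal.ofList s') ∨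
      x ∈ maximalIdeal A • Ideal.ofList s := by
  induction s with
  | nil => intro x hx; exact Or.inr (by rw [Ideal.ofList_nil] at hx ⊢; simpa using hx)
  | cons a₀ s ih =>
    intro x hx
    rw [Ideal.ofList_cons, Submodule.mem_sup] at hx
    obtain ⟨_, hc, z, hz, rfl⟩ := hx
    obtain ⟨c, rfl⟩ := Ideal.mem_span_singleton'.1 hc
    by_cases hu : IsUnit c
    · exact Or.inl ⟨s, a₀, c, (List.perm_append_singleton a₀ s).symm, hu, by simpa using hz⟩
    rcases ih z hz with ⟨s', y, a, hp, ha, hm⟩ | h
    · refine Or.inl ⟨a₀ :: s', y, a, hp.cons a₀, ha, ?_⟩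
      rw [Ideal.ofList_cons, show c * a₀ + z - a * y = c * a₀ + (z - a * y) by ring]
      exact add_mem (Ideal.mem_sup_left hc) (Ideal.mem_sup_right hm)
    · right
      rw [Ideal.ofList_cons, Submodule.smul_sup]
      exact add_mem (Submodule.mem_sup_left (Submodule.smul_mem_smul (r := c) hu
        (Ideal.mem_span_singleton_self a₀))) (Submodule.mem_sup_right h)

variable [IsNoetherianRing A]

/-- changing the last element -/
theorem isRegular_change_last {l : List A} {y x a : A} (h : IsRegular A (l ++ [y])) (ha : IsUnit a)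
    (hx : x - a * y ∈ Ideal.ofList l) :
    IsRegular A (l ++ [x]) ∧ Ideal.ofList (l ++ [x]) = Ideal.ofList (l ++ [y]) := by
  have he : Ideal.ofList (l ++ [x]) = Ideal.ofList (l ++ [y]) := by
    rw [Ideal.ofList_append, Ideal.ofList_append, Ideal.ofList_singleton, Ideal.ofList_singleton]
    refine le_antisymm (sup_le le_sup_left ?_) (sup_le le_sup_left ?_)
    · rw [Ideal.span_singleton_le_iff_mem, show x = (x - a * y) + a * y by ring]
      exact add_mem (Ideal.mem_sup_left hx) (Ideal.mem_sup_right (Ideal.mul_mem_left _ _ (Ideal.mem_span_singleton_self y)))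
    · obtain ⟨b, hb⟩ := ha.exists_left_inv
      rw [Ideal.span_singleton_le_iff_mem, show y = b * x - b * (x - a * y) by linear_combination (-y) * hb]
      exact sub_mem (Ideal.mem_sup_right (Ideal.mul_mem_left _ _ (Ideal.mem_span_singleton_self x)))
        (Ideal.mem_sup_left (Ideal.mul_mem_left _ _ hx))
  refine ⟨⟨?_, by rw [he]; exact h.top_ne_smul⟩, he⟩
  obtain ⟨h1, h2⟩ := (isWeaklyRegular_append_iff A l [y]).1 h.toIsWeaklyRegular
  rw [isWeaklyRegular_singleton_iff] at h2
  refine (isWeaklyRegular_append_iff A l [x]).2 ⟨h1, (isWeaklyRegular_singleton_iff _ _).2 fun z z' hzz => ?_⟩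
  refine h2 ?_
  have key : ∀ w : A ⧸ (Ideal.ofList l • ⊤ : Submodule A A), x • w = a • (y • w) := fun w => by
    obtain ⟨w, rfl⟩ := Submodule.Quotient.mk_surjective _ w
    rw [← Submodule.Quotient.mk_smul, ← Submodule.Quotient.mk_smul, ← Submodule.Quotient.mk_smul,
      Submodule.Quotient.eq, smul_smul, ← sub_smul]
    exact Submodule.smul_mem_smul hx trivial
  exact ha.smul_left_cancel.1 ((key z).symm.trans (hzz.trans (key z')))

variable (I : Ideal A)

/-- the elementary steps -/
def Step (w w' : List A) : Prop :=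
  (IsRegular A w' ∧ Ideal.ofList w' = I) ∧ (w.Perm w' ∨ (w.length = w'.length ∧ w.dropLast = w'.dropLast))

theorem exists_chain (v : List A) (hv : IsRegular A v) (hvI : Ideal.ofList v = I) :
    ∀ (r p s : List A), v.Perm (p ++ r) → IsRegular A (p ++ s) → Ideal.ofList (p ++ s) = I →
      Relation.ReflTransGen (Step I) (p ++ s) v := by
  intro r
  induction r with
  | nil =>
    intro p s hvp hw hI
    rw [List.append_nil] at hvp
    rcases s with - | ⟨y, s⟩
    · rw [List.append_nil] at hw hI ⊢
      exact .single ⟨⟨hv, hvI⟩, Or.inl hvp.symm⟩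
    · exfalso
      refine not_mem_ofList hw (List.perm_append_singleton y (p ++ s) |>.trans List.perm_middle.symm).symm ?_
      rw [Ideal.ofList_append]
      refine Ideal.mem_sup_left ?_
      rw [← ofList_perm hvp, hvI, ← hI]
      exact Ideal.subset_span (List.mem_append_right _ List.mem_cons_self)
  | cons x r ih =>
    intro p s hvp hw hI
    have hperm : v.Perm (x :: (p ++ r)) := hvp.trans List.perm_middle
    have hx : x ∈ Ideal.ofList p ⊔ Ideal.ofList s := by
      rw [← Ideal.ofList_append, hI, ← hvI]
      exact Ideal.subset_span (hperm.mem_iff.2 List.mem_cons_self)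
    obtain ⟨q, hq, z, hz, rfl⟩ := Submodule.mem_sup.1 hx
    rcases exists_unit_coeff s z hz with ⟨s', y, a, hp', ha, hm⟩ | hm
    · have h1 : IsRegular A ((p ++ s') ++ [y]) := by
        rw [List.append_assoc]
        exact IsLocalRing.isRegular_of_perm hw (hp'.append_left p)
      have hI1 : Ideal.ofList ((p ++ s') ++ [y]) = I := by
        rw [List.append_assoc, ← ofList_perm (hp'.append_left p), hI]
      obtain ⟨h2, he⟩ := isRegular_change_last h1 ha (x := q + z) (by
        rw [Ideal.ofList_append, show q + z - a * y = q + (z - a * y) by ring]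
        exact add_mem (Ideal.mem_sup_left hq) (Ideal.mem_sup_right hm))
      have hp3 : ((p ++ s') ++ [q + z]).Perm ((p ++ [q + z]) ++ s') := by
        rw [List.append_assoc, List.append_assoc]
        exact List.perm_append_comm.append_left p
      have h3 := IsLocalRing.isRegular_of_perm h2 hp3
      have hI3 := ((ofList_perm hp3).symm.trans he).trans hI1
      refine Relation.ReflTransGen.trans (.single (b := (p ++ s') ++ [y]) ⟨⟨h1, hI1⟩, Or.inl ?_⟩) ?_
      · rw [List.append_assoc]; exact hp'.append_left p
      refine Relation.ReflTransGen.trans (.single (b := (p ++ s') ++ [q + z]) ⟨⟨h2, he.trans hI1⟩, Or.inr ?_⟩) ?_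
      · simp
      refine Relation.ReflTransGen.trans (.single (b := (p ++ [q + z]) ++ s') ⟨⟨h3, hI3⟩, Or.inl hp3⟩) ?_
      refine ih (p ++ [q + z]) s' (hvp.trans ?_) h3 hI3
      rw [List.append_assoc]
      rfl
    · exfalso
      refine not_mem_ofList hv (hperm.trans (List.perm_append_singleton _ _).symm) ?_
      have hle : Ideal.ofList s ≤ Ideal.span {q + z} ⊔ Ideal.ofList (p ++ r) := by
        rw [← Ideal.ofList_cons, ← ofList_perm hperm, hvI, ← hI, Ideal.ofList_append]
        exact le_sup_right
      have hm' := Submodule.smul_mono (I := maximalIdeal A) le_rfl hle hm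
      rw [Submodule.smul_sup, Submodule.mem_sup] at hm'
      obtain ⟨w₁, hw₁, o, ho, e⟩ := hm'
      obtain ⟨c, hc, rfl⟩ := Submodule.mem_smul_span_singleton.1 hw₁
      have ho' : o ∈ Ideal.ofList (p ++ r) := Submodule.smul_le_right ho
      have hc1 : IsUnit (1 - c) := IsLocalRing.isUnit_one_sub_self_of_mem_nonunits c hc
      have hkey : (1 - c) * (q + z) = q + o := by
        rw [smul_eq_mul] at e
        linear_combination (-1 : A) * e
      refine (Ideal.unit_mul_mem_iff_mem _ hc1).1 ?_
      rw [hkey]
      exact add_mem (by rw [Ideal.ofList_append]; exact Ideal.mem_sup_left hq) ho'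

theorem exists_steps {u v : List A} (hu : IsRegular A u) (hv : IsRegular A v)
    (huv : Ideal.ofList u = Ideal.ofList v) :
    ∃ ws : List (List A), ws.head? = some u ∧ ws.getLast? = some v ∧
      (∀ w ∈ ws, IsRegular A w ∧ Ideal.ofList w = Ideal.ofList u) ∧
      List.IsChain (fun w w' : List A => w.Perm w' ∨ (w.length = w'.length ∧ w.dropLast = w'.dropLast)) ws := by
  have h : Relation.ReflTransGen (Step (Ideal.ofList u)) u v :=
    exists_chain (Ideal.ofList u) v hv huv.symm v [] u (List.Perm.refl v) hu rfl
  generalize hI : Ideal.ofList u = I at h huv ⊢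
  induction h using Relation.ReflTransGen.head_induction_on with
  | refl => exact ⟨[v], rfl, rfl, fun w hw => by rw [List.mem_singleton.1 hw]; exact ⟨hv, huv.symm⟩, .singleton v⟩
  | head h1 h2 ih =>
    rename_i a c
    obtain ⟨ws, hh, hl, hall, hc⟩ := ih h1.1.1 h1.1.2
    cases ws with
    | nil => simp at hh
    | cons d ws =>
      cases hh
      refine ⟨a :: c :: ws, rfl, by rw [List.getLast?_cons_cons]; exact hl, fun w hw => ?_,
        List.isChain_cons_cons.2 ⟨h1.2, hc⟩⟩
      rcases List.mem_cons.1 hw with rfl | hw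
      · exact ⟨hu, hI⟩
      · exact hall w hw

end Groth.Agent.RegChain
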